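import Cfsg.Agent.H690.Spor.RankThree

/-!
# The values of the characters of a permutation group of rank 3 (helper896, S4987)

`exists_irr` : if the parameters of the graph `R` are `a, b` and `u, v` are the two eigenvalues, then some irreducible
character `χ` satisfies `(u - v) χ(g) = #{x | R x (g x)} - v #fix(g) - (k - v)`.
-/

set_option autoImplicit false
set_option linter.unusedSectionVars false

namespace Cfsg.Agent.H896.Van.Chi

open Cfsg Cfsg.Agent.Characters.Core Cfsg.Agent.H690.Spor.RankThree Cfsg.Agent.H690.Spor.RankThree.R3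
open scoped ComplexConjugate

variable {G X : Type*} [Group G] [MulAction G X] {R : X → X → Prop} {k l : ℕ}

theorem finite_pt (h : R3 G X R k l) : Finite X := by
  have hn := h.cardn
  by_contra hcon
  rw [not_finite_iff_infinite] at hcon
  rw [Nat.card_eq_zero_of_infinite] at hn
  omega

/-- The parameters are determined by one number of common neighbours. -/
theorem params_of [Fintype X] [DecidableEq X] [DecidableRel R] (h : R3 G X R k l) {x0 y0 : X} (hne : x0 ≠ y0)
    (hR : ¬ R x0 y0) {a b : ℕ} (hb : Nat.card {z // R x0 z ∧ R z y0} = b) (hk : k * k = k + k * a + l * b) :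
    ∀ x y, ∑ z, adj R x z * adj R z y = (k - b : ℂ) * dia x y + (a - b : ℂ) * adj R x y + b := by
  obtain ⟨a', b', hab⟩ := h.exists_params
  have h1 := hab x0 y0
  rw [R3.sum_mul] at h1
  unfold dia adj at h1
  rw [if_neg hne, if_neg hR, mul_zero, mul_zero, zero_add, zero_add] at h1
  have h2 : b = b' := by
    have h3 : ((com R x0 y0 : ℕ) : ℂ) = (b' : ℂ) := h1
    have h4 : com R x0 y0 = b' := by exact_mod_cast h3
    rw [← h4, ← hb]
    rfl
  subst h2
  have h5 := h.params_eq hab
  have h6 : k * a = k * a' := by omega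
  have h7 : a = a' := Nat.eq_of_mul_eq_mul_left h.k0 h6
  subst h7
  exact hab

/-- **The character of the eigenspace.** -/
theorem exists_irr [Finite G] (h : R3 G X R k l) {x0 y0 : X} (hne : x0 ≠ y0) (hR : ¬ R x0 y0) {a b : ℕ}
    (hb : Nat.card {z // R x0 z ∧ R z y0} = b) (hk : k * k = k + k * a + l * b) {u v : ℂ} (huv : u ≠ v)
    (h1 : u + v = a - b) (h2 : u * v = b - k) (hu : u * (k + l) + k ≠ 0) (hv : v * (k + l) + k ≠ 0) :
    ∃ χ : IrrCharacter G, ∀ g : G, (u - v) * (χ : G → ℂ) g =
      (Nat.card {x : X // R x (g • x)} : ℂ) - v * (Nat.card (MulAction.fixedBy X g) : ℂ) - (k - v) := by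
  classical
  have := finite_pt h
  have := Fintype.ofFinite X
  have := Fintype.ofFinite G
  have hn := h.cardn
  have hab := params_of h hne hR hb hk
  have hchar : ∀ u v : ℂ, u ≠ v → u + v = a - b → u * v = b - k →
      IsCharacter G (fun g : G => ∑ x : X, ker R k (Nat.card X) u v x (g • x)) := by
    intro u v huv h3 h4
    exact Cfsg.Agent.H651.isCharacter_sum_perm (MulAction.toPermHom G X) (ker R k (Nat.card X) u v)
      (h.ker_mul hab huv h3 h4) (fun g x y => h.ker_smul _ u v g x y)
  have hc1 := hchar u v huv h1 h2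
  have hc2 := hchar v u huv.symm (by rw [add_comm]; exact h1) (by rw [mul_comm]; exact h2)
  set θ₁ : G → ℂ := fun g : G => ∑ x : X, ker R k (Nat.card X) u v x (g • x) with hθ₁
  set θ₂ : G → ℂ := fun g : G => ∑ x : X, ker R k (Nat.card X) v u x (g • x) with hθ₂
  have hnC : (Nat.card X : ℂ) ≠ 0 := by
    have : Nat.card X ≠ 0 := by omega
    exact_mod_cast this
  have hval : ∀ u v : ℂ, ∀ g : G, ∑ x : X, ker R k (Nat.card X) u v x (g • x) =
      (u - v)⁻¹ * (∑ x : X, adj R x (g • x) - v * (Nat.card (MulAction.fixedBy X g) : ℂ) - (k - v)) := by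
    intro u v g
    unfold ker
    rw [← Finset.mul_sum, Finset.sum_sub_distrib, Finset.sum_sub_distrib, ← Finset.mul_sum, sum_dia_smul,
      Finset.sum_const, Finset.card_univ, ← Nat.card_eq_fintype_card, nsmul_eq_mul]
    congr 2
    field_simp
  have hd : u - v ≠ 0 := sub_ne_zero.2 huv
  have hi : (u - v)⁻¹ * (u - v) = 1 := inv_mul_cancel₀ hd
  have hi' : (v - u)⁻¹ = -(u - v)⁻¹ := by rw [← neg_sub, inv_neg]
  have hsum : (fun g : G => (Nat.card (MulAction.fixedBy X g) : ℂ) - 1) = θ₁ + θ₂ := by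
    funext g
    show _ = θ₁ g + θ₂ g
    rw [hθ₁, hθ₂]
    simp only [hval]
    rw [hi']
    linear_combination (-(Nat.card (MulAction.fixedBy X g) : ℂ) + 1) * hi
  have hnorm := h.norm_two (G := G)
  rw [hsum, classInner_add_left, classInner_add_right, classInner_add_right] at hnorm
  have hone : ∑ x : X, adj R x ((1 : G) • x) = 0 := by
    refine Finset.sum_eq_zero fun x _ => ?_
    unfold adj
    rw [one_smul, if_neg (h.irr x)]
  have hfix1 : Nat.card (MulAction.fixedBy X (1 : G)) = Nat.card X := by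
    rw [MulAction.fixedBy_one_eq_univ]
    exact Nat.card_univ
  have hn' : (Nat.card X : ℂ) = 1 + k + l := by exact_mod_cast hn
  have hdeg1 : θ₁ 1 ≠ 0 := by
    have h3 : θ₁ 1 * (u - v) = -(v * (k + l) + k) := by
      rw [hθ₁]
      simp only [hval]
      rw [hone, hfix1, hn']
      linear_combination (0 - v * (1 + k + l) - (k - v)) * hi
    intro h4
    rw [h4, zero_mul] at h3
    exact hv (neg_eq_zero.1 h3.symm)
  have hdeg2 : θ₂ 1 ≠ 0 := by
    have h3 : θ₂ 1 * (u - v) = u * (k + l) + k := by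
      rw [hθ₂]
      simp only [hval]
      rw [hone, hfix1, hn', hi']
      linear_combination (0 - (0 - u * (1 + k + l) - (k - u))) * hi
    intro h4
    rw [h4, zero_mul] at h3
    exact hu h3.symm
  obtain ⟨m11, hm11⟩ := classInner_isNat hc1 hc1
  obtain ⟨m12, hm12⟩ := classInner_isNat hc1 hc2
  obtain ⟨m21, hm21⟩ := classInner_isNat hc2 hc1
  obtain ⟨m22, hm22⟩ := classInner_isNat hc2 hc2
  rw [hm11, hm12, hm21, hm22] at hnorm
  have hnormN : m11 + m12 + (m21 + m22) = 2 := by exact_mod_cast hnorm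
  have h11 : m11 ≠ 0 := by
    rintro rfl
    have h3 := classInner_self_eq_zero (φ := θ₁) (by rw [hm11]; simp)
    exact hdeg1 (by rw [h3]; rfl)
  have h22 : m22 ≠ 0 := by
    rintro rfl
    have h3 := classInner_self_eq_zero (φ := θ₂) (by rw [hm22]; simp)
    exact hdeg2 (by rw [h3]; rfl)
  have hm1 : m11 = 1 := by omega
  have hi1 : IsIrrCharacter G θ₁ := isIrr_of_classInner_self hc1 (by rw [hm11, hm1]; simp)
  refine ⟨⟨θ₁, hi1⟩, fun g => ?_⟩
  show (u - v) * θ₁ g = _
  rw [hθ₁]
  simp only [hval]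
  have hadj : ∑ x : X, adj R x (g • x) = (Nat.card {x : X // R x (g • x)} : ℂ) := by
    unfold adj
    rw [Finset.sum_boole, Nat.card_eq_fintype_card, Fintype.card_subtype]
  rw [hadj]
  linear_combination ((Nat.card {x : X // R x (g • x)} : ℂ) - v * (Nat.card (MulAction.fixedBy X g) : ℂ) - (k - v)) * hi

end Cfsg.Agent.H896.Van.Chi
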