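import Cfsg.Agent.H896.Van.SuzVal
import Cfsg.Agent.H997.OutSuz
import Cfsg.Agent.H387.VO.Main

/-!
# Two 5-singular vanishing elements of `Suz` (helper896, S4987)
-/

set_option autoImplicit false
set_option maxRecDepth 100000
set_option exponentiation.threshold 5000

namespace Cfsg.Agent.H896.Van.Suz

open Cfsg Cfsg.Agent Cfsg.Spor Cfsg.Agent.Lib.PermNet Cfsg.Agent.SporadicRecognition.SuzPhi
  Cfsg.Agent.SporadicRecognition.SuzOrder Cfsg.Agent.KFacts.SuzRho Cfsg.Agent.Characters.Core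

theorem aut_cases (α : MulAut Suz) : ∃ s : Suz, α = MulAut.conj s ∨ α = MulAut.conj s * rho := by
  rcases KFacts.SuzOut.index_eq with h | h
  · have h1 : α ∈ (MulAut.conj : Suz →* MulAut Suz).range := by
      rw [Subgroup.index_eq_one.1 h]
      trivial
    obtain ⟨s, hs⟩ := h1
    exact ⟨s, Or.inl hs.symm⟩
  · by_cases h1 : α ∈ (MulAut.conj : Suz →* MulAut Suz).range
    · obtain ⟨s, hs⟩ := h1
      exact ⟨s, Or.inl hs.symm⟩
    · have h2 : rho ∉ (MulAut.conj : Suz →* MulAut Suz).range := by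
        rintro ⟨s, hs⟩
        exact H997.OutSuz.rho_outer s hs.symm
      obtain ⟨s, hs⟩ := (Subgroup.mul_mem_iff_of_index_two h).2 (iff_of_false h1 h2)
      refine ⟨s, Or.inr ?_⟩
      rw [hs, mul_assoc, rho_sq, mul_one]

theorem vz_of {w : List Suz.Gen} (hw : w.map sw = w) {χ : IrrCharacter Suz} (h : (χ : Suz → ℂ) (el w) = 0) :
    H713.VZ Suz (el w) := by
  have hfin : Finite Suz := Cfsg.Agent.SporadicRecognition.SuzBound.finite_Suz
  refine ⟨χ, fun α => ?_⟩
  obtain ⟨s, hs | hs⟩ := aut_cases α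
  · rw [hs, MulAut.conj_apply]
    exact (isIrr_isClassFunction χ.2 (el w) s).trans h
  · rw [hs, MulAut.mul_apply, rho_el, hw, MulAut.conj_apply]
    exact (isIrr_isClassFunction χ.2 (el w) s).trans h

theorem ne_one_of {w : List Suz.Gen} {p : ℕ} (h : Nat.beq (ptWord (wd w) p) p = false) : el w ≠ 1 := by
  intro h1
  have h2 := φ_el w
  rw [h1, map_one] at h2
  rw [ptWord_eq (wd_ok w), ← h2, Equiv.Perm.one_apply] at h
  rw [Nat.beq_refl] at h
  exact absurd h (by simp)

theorem order_x : orderOf (el [.a, .b]) = 5 := by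
  have : Fact (Nat.Prime 5) := ⟨by norm_num⟩
  refine orderOf_eq_prime ?_ (ne_one_of (p := 1) (by decide +kernel))
  rw [← el_rp]
  exact el_eq_one (by decide +kernel)

theorem order_y : 5 ∣ orderOf (el [.a, .b, .d]) ∧ orderOf (el [.a, .b, .d]) ≠ 5 := by
  have h10 : (el [.a, .b, .d]) ^ 10 = 1 := by
    rw [← el_rp]
    exact el_eq_one (by decide +kernel)
  have h2 : (el [.a, .b, .d]) ^ 2 ≠ 1 := by
    rw [← el_rp]
    exact ne_one_of (p := 1) (by decide +kernel)
  have h5 : (el [.a, .b, .d]) ^ 5 ≠ 1 := by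
    rw [← el_rp]
    exact ne_one_of (p := 4) (by decide +kernel)
  constructor
  · by_contra hc
    have hcop : Nat.Coprime (orderOf (el [.a, .b, .d])) 5 :=
      ((Nat.Prime.coprime_iff_not_dvd (by norm_num)).2 hc).symm
    have h3 : orderOf (el [.a, .b, .d]) ∣ 2 :=
      hcop.dvd_of_dvd_mul_left (by rw [show 5 * 2 = 10 from rfl]; exact orderOf_dvd_of_pow_eq_one h10)
    exact h2 (orderOf_dvd_iff_pow_eq_one.1 h3)
  · intro h
    exact h5 (by rw [← h]; exact pow_orderOf_eq_one _)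

/-- **The row of `Suz` for the prime 5.** -/
theorem two_suz_five {K : Type*} [Group K] (h : Spor.IsoSuz K) : H387.VO.TwoVan 5 K := by
  obtain ⟨e⟩ := h
  refine H387.VO.TwoVan.mulEquiv ?_ e.symm
  obtain ⟨χ, hx, hy⟩ := SuzVal.exists_zero
  exact H387.VO.TwoVan.of_order (x := el [.a, .b]) (y := el [.a, .b, .d]) (by rw [order_x]) order_y.1
    (vz_of rfl hx) (vz_of rfl hy) (by rw [order_x]; exact order_y.2.symm)

end Cfsg.Agent.H896.Van.Suz
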