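import Cfsg.Agent.H896.Van.Walk
import Cfsg.Agent.S1680

/-!
# Two characters values of the rank 3 action of `Suz` (helper896, S4987)

`exists_irr` : the irreducible character of degree 780 vanishes at `ab` (order 5) and `abd` (order 10).
-/

set_option autoImplicit false
set_option maxRecDepth 100000
set_option exponentiation.threshold 5000

namespace Cfsg.Agent.H896.Van.SuzVal

open Cfsg.Spor Cfsg.Agent.Lib.PermNet Cfsg.Agent.Lib.PermNetOrbit Cfsg.Agent.SporadicRecognition.SuzPhi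
  Cfsg.Agent.SporadicRecognition.SuzBound Cfsg.Agent.SporadicRecognition.SuzOrder Cfsg.Agent.H896.Van.Walk
  Cfsg

/-- a walk through all points -/
def wlk : List Suz.Gen := [
  .a, .g, .b, .f, .g, .f, .c, .a, .f, .a, .d, .g, .c, .a, .b, .g, .a, .g, .b, .a, .d, .c, .d, .b, .a, .g, .a,
  .b, .c, .b, .d, .c, .a, .b, .g, .a, .g, .b, .g, .d, .g, .b, .c, .a, .c, .f, .g, .d, .g, .e, .g, .f, .b, .f,
  .a, .f, .b, .g, .b, .a, .g, .c, .a, .g, .b, .a, .d, .g, .c, .d, .f, .a, .c, .e, .d, .a, .b, .e, .g, .e, .a,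
  .g, .d, .a, .e, .d, .a, .d, .g, .e, .a, .e, .d, .a, .b, .e, .b, .a, .c, .b, .f, .e, .a, .e, .b, .g, .d, .g,
  .b, .a, .c, .f, .b, .f, .b, .f, .a, .d, .g, .d, .a, .d, .c, .a, .d, .a, .e, .a, .d, .a, .g, .a, .b, .g, .c,
  .d, .c, .d, .a, .g, .a, .d, .c, .a, .b, .d, .f, .d, .g, .e, .f, .e, .a, .d, .f, .d, .g, .d, .f, .d, .b, .d,
  .a, .d, .f, .d, .g, .d, .f, .e, .a, .e, .f, .e, .g, .d, .b, .a, .d, .a, .f, .e, .a, .b, .e, .b, .g, .e, .f,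
  .e, .b, .f, .a, .f, .g, .a, .e, .a, .b, .f, .g, .f, .a, .f, .e, .f, .b, .g, .e, .g, .a, .e, .g, .e, .f, .e,
  .a, .b, .g, .d, .a, .d, .b, .f, .e, .f, .c, .a, .e, .a, .g, .e, .a, .e, .f, .a, .e, .a, .g, .e, .a, .e, .d,
  .g, .b, .f, .e, .f, .b, .g, .b, .e, .d, .e, .a, .e, .d, .f, .a, .e, .a, .f, .g, .f, .a, .f, .e, .f, .a, .f,
  .d, .a, .f, .a, .g, .a, .e, .a, .b, .c, .f, .e, .a, .f, .c, .f, .b, .c, .d, .a, .f, .c, .g, .a, .f, .b, .d,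
  .e, .d, .b, .a, .g, .b, .f, .e, .a, .e, .c, .e, .d, .g, .b, .d, .b, .e, .b, .c, .e, .d, .b, .f, .a, .f, .d,
  .f, .a, .f, .e, .a, .b, .a, .c, .e, .d, .g, .f, .a, .c, .e, .a, .f, .a, .b, .c, .a, .c, .d, .a, .g, .d, .a,
  .d, .c, .f, .e, .f, .d, .f, .e, .f, .g, .e, .d, .e, .a, .g, .f, .g, .a, .e, .f, .g, .f, .g, .d, .c, .f, .g,
  .f, .e, .f, .g, .f, .c, .b, .e, .d, .e, .f, .e, .d, .e, .d, .g, .e, .g, .b, .d, .g, .e, .g, .f, .e, .g, .a,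
  .g, .e, .g, .a, .f, .e, .g, .e, .d, .a, .f, .g, .f, .a, .f, .g, .c, .g, .e, .g, .c, .a, .g, .a, .f, .c, .e,
  .g, .e, .c, .d, .g, .e, .f, .e, .g, .a, .g, .e, .g, .a, .f, .g, .e, .d, .g, .d, .c, .e, .g, .e, .f, .e, .a,
  .g, .e, .g, .f, .e, .d, .e, .g, .e, .d, .e, .f, .e, .b, .d, .e, .d, .c, .d, .c, .e, .d, .g, .f, .e, .a, .g,
  .d, .g, .f, .c, .f, .g, .a, .e, .a, .c, .g, .c, .a, .c, .b, .e, .c, .e, .d, .a, .f, .a, .b, .e, .f, .e, .b,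
  .f, .d, .f, .a, .c, .g, .f, .g, .f, .b, .f, .e, .c, .b, .f, .g, .b, .g, .f, .d, .g, .e, .b, .e, .c, .d, .b,
  .d, .a, .d, .b, .e, .a, .e, .f, .b, .g, .e, .c, .b, .a, .d, .g, .e, .a, .e, .b, .g, .e, .a, .c, .e, .g, .e,
  .d, .c, .a, .c, .b, .f, .e, .f, .a, .e, .f, .e, .c, .a, .d, .a, .c, .e, .a, .f, .a, .e, .a, .f, .d, .f, .a,
  .f, .c, .f, .g, .b, .g, .b, .g, .a, .e, .d, .g, .e, .g, .f, .g, .a, .e, .g, .a, .g, .b, .f, .a, .e, .g, .e,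
  .f, .e, .b, .g, .d, .e, .a, .e, .d, .g, .d, .a, .e, .a, .b, .e, .a, .d, .a, .e, .b, .a, .g, .a, .d, .c, .g,
  .c, .a, .e, .g, .e, .b, .e, .a, .e, .b, .f, .e, .f, .g, .e, .d, .e, .a, .g, .e, .g, .d, .g, .c, .g, .b, .e,
  .f, .d, .f, .g, .d, .e, .c, .e, .g, .e, .d, .g, .e, .g, .b, .d, .b, .g, .e, .g, .b, .d, .g, .e, .g, .d, .a,
  .g, .b, .a, .d, .a, .e, .a, .d, .a, .b, .g, .f, .g, .d, .g, .f, .g, .e, .g, .f, .g, .a, .d, .b, .a, .b, .d,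
  .g, .d, .e, .d, .e, .d, .g, .d, .b, .d, .e, .a, .g, .d, .e, .b, .e, .g, .e, .d, .g, .b, .e, .d, .f, .d, .g,
  .a, .b, .d, .e, .g, .c, .d, .a, .g, .e, .g, .d, .g, .b, .e, .d, .e, .a, .e, .g, .a, .d, .a, .g, .b, .g, .a,
  .b, .g, .d, .g, .c, .d, .g, .d, .b, .d, .a, .d, .e, .a, .g, .a, .e, .a, .c, .g, .e, .g, .d, .g, .e, .g, .a,
  .e, .d, .e, .d, .e, .a, .e, .g, .e, .a, .e, .d, .e, .d, .e, .f, .g, .a, .g, .e, .a, .g, .a, .d, .a, .g, .a,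
  .e, .g, .a, .g, .c, .a, .d, .a, .e, .a, .g, .e, .a, .e, .d, .c, .g, .c, .a, .c, .g, .c, .e, .c, .g, .c, .d,
  .g, .e, .a, .e, .g, .d, .g, .c, .g, .b, .f, .a, .c, .a, .e, .d, .g, .a, .g, .d, .c, .a, .f, .d, .f, .a, .f,
  .d, .c, .d, .g, .a, .g, .d, .e, .a, .c, .d, .a, .f, .a, .e, .a, .d, .f, .d, .a, .d, .f, .c, .f, .g, .d, .e,
  .g, .e, .f, .e, .d, .e, .d, .a, .d, .e, .g, .e, .b, .d, .b, .a, .d, .e, .d, .a, .g, .b, .d, .a, .d, .c, .a,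
  .f, .a, .e, .f, .a, .f, .d, .c, .f, .c, .a, .f, .c, .f, .e, .a, .c, .a, .f, .a, .c, .a, .b, .a, .f, .a, .b,
  .f, .g, .a, .g, .f, .g, .a, .b, .d, .c, .g, .a, .c, .a, .e, .c, .d, .g, .a, .b, .f, .a, .f, .e, .f, .a, .g,
  .a, .d, .a, .e, .d, .a, .g, .b, .a, .g, .a, .d, .a, .e, .a, .g, .a, .e, .a, .b, .g, .b, .g, .a, .g, .f, .a,
  .g, .a, .d, .a, .f, .a, .g, .f, .a, .f, .c, .a, .g, .a, .e, .a, .g, .a, .b, .a, .d, .a, .e, .g, .a, .g, .b,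
  .e, .g, .e, .f, .e, .b, .e, .c, .e, .d, .f, .a, .f, .b, .f, .a, .e, .f, .d, .g, .a, .f, .a, .c, .d, .c, .g,
  .a, .g, .f, .a, .g, .a, .d, .f, .e, .c, .b, .d, .e, .g, .e, .c, .e, .f, .e, .a, .f, .e, .f, .g, .c, .e, .d,
  .e, .c, .b, .e, .f, .e, .c, .a, .c, .e, .c, .a, .f, .e, .b, .c, .e, .c, .g, .f, .a, .f, .d, .c, .f, .c, .a,
  .f, .c, .f, .e, .a, .f, .a, .c, .a, .f, .a, .b, .e, .g, .e, .b, .e, .a, .e, .g, .e, .f, .g, .e, .g, .d, .f,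
  .g, .a, .f, .e, .f, .a, .g, .f, .b, .e, .a, .c, .g, .c, .a, .f, .b, .f, .a, .g, .a, .b, .a, .e, .a, .c, .g,
  .a, .g, .b, .d, .a, .f, .d, .a, .b, .g, .a, .g, .f, .a, .g, .d, .e, .a, .e, .d, .e, .g, .f, .d, .g, .d, .a,
  .d, .g, .d, .f, .g, .b, .f, .a, .f, .b, .e, .a, .f, .g, .a, .f, .a, .e, .f, .a, .f, .c, .e, .f, .a, .g, .f,
  .a, .g, .e, .g, .a, .f, .g, .a, .g, .d, .a, .g, .a, .f, .a, .g, .a, .e, .a, .g, .a, .c, .e, .f, .g, .a, .g,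
  .f, .g, .a, .e, .a, .g, .f, .g, .a, .g, .c, .a, .g, .a, .b, .c, .a, .c, .d, .e, .c, .d, .a, .e, .c, .e, .b,
  .f, .a, .f, .e, .a, .f, .a, .g, .e, .f, .e, .a, .e, .f, .e, .d, .b, .f, .e, .f, .c, .f, .e, .f, .g, .c, .e,
  .f, .e, .c, .e, .f, .a, .f, .c, .e, .c, .f, .c, .e, .b, .d, .a, .d, .e, .a, .g, .e, .a, .e, .d, .f, .d, .c,
  .g, .c, .d, .c, .e, .f, .e, .c, .a, .c, .e, .f, .e, .c, .d, .g, .d, .f, .b, .f, .c, .f, .e, .a, .c, .a, .b,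
  .f, .a, .f, .g, .a, .f, .a, .d, .f, .a, .f, .e, .a, .d, .a, .g, .a, .d, .a, .e, .a, .f, .a, .e, .a, .b, .e,
  .f, .e, .a, .e, .f, .e, .c, .d, .b, .d, .g, .e, .g, .b, .g, .e, .d, .e, .g, .b, .f, .g, .d, .g, .f, .g, .e,
  .a, .d, .e, .g, .e, .d, .e, .g, .d, .a, .e, .a, .g, .e, .f, .e, .g, .e, .d, .g, .c, .a, .f, .a, .g, .a, .f,
  .a, .e, .g, .f, .g, .f, .g, .f, .g, .b, .e, .g, .e, .f, .a, .f, .g, .f, .a, .e, .g, .a, .g, .f, .g, .b, .c,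
  .e, .c, .g, .c, .e, .c, .d, .a, .g, .a, .e, .g, .a, .g, .b, .a, .e, .a, .d, .e, .g, .e, .d, .a, .e, .a, .b,
  .e, .g, .f, .e, .f, .a, .e, .g, .e, .f, .e, .a, .g, .e, .g, .b, .c, .a, .g, .e, .g, .a, .g, .e, .b, .e, .c,
  .a, .g, .f, .a, .f, .b, .e, .g, .e, .f, .g, .e, .g, .b, .e, .a, .g, .a, .f, .g, .a, .g, .e, .g, .a, .g, .f,
  .a, .g, .b, .e, .g, .e, .a, .e, .g, .e, .d, .g, .a, .g, .e, .g, .a, .g, .b, .f, .a, .g, .a, .f, .a, .e, .d,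
  .g, .f, .e, .c, .f, .e, .f, .a, .g, .f, .e, .a, .e, .f, .e, .b, .g, .e, .g, .c, .e, .g, .e, .f, .e, .c, .e,
  .g, .f, .e, .f, .b, .g, .a, .g, .c, .f, .e, .g, .a, .g, .e, .g, .f, .a, .g, .e, .c, .a, .c, .g, .c, .a, .c,
  .a, .d, .g, .b, .a, .e, .d, .g, .d, .e, .a, .f, .a, .e, .d, .g, .a, .e, .a, .c, .g, .a, .g, .d, .a, .e, .c,
  .d, .e, .d, .f, .g, .a, .f, .e, .a, .e, .g, .e, .a, .d, .a, .e, .d, .e, .g, .f, .e, .f, .a, .e, .f, .e, .g,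
  .e, .d, .b, .c, .a, .f, .c, .f, .e, .d, .a, .g, .a, .e, .a, .f, .e, .g, .a, .g, .e, .b, .e, .a, .e, .g, .e,
  .a, .e, .b, .c, .d, .f, .d, .c, .g, .f, .e, .f, .g, .f, .a, .e, .f, .e, .g, .e, .f, .e, .b, .a, .b, .g, .c,
  .f, .e, .f, .a, .f, .e, .f, .b, .c, .b, .f, .e, .a, .b, .f, .d, .f, .b, .c, .a, .g, .a, .b, .f, .f, .b, .c,
  .d, .e, .a, .e, .d, .g, .b, .a, .c, .a]

theorem wlk_ok : WOk (2 ^ 11) (wd wlk) := wd_ok wlk

theorem wlk_ex : ∀ L ∈ wd wlk, ∃ s, φ s = L.perm := by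
  intro L hL
  obtain ⟨x, _, rfl⟩ := List.mem_map.1 hL
  refine ⟨el [x], ?_⟩
  rw [φ_el]
  show wperm [net x] = _
  rw [wperm_cons, wperm_nil, mul_one]

theorem chk_x : chk 11 (wd [.a, .b]) (wd wlk) U2 1782 400 = true := by decide +kernel

theorem chk_y : chk 11 (wd [.a, .b, .d]) (wd wlk) U2 1782 400 = true := by decide +kernel

theorem stab_lt : (∀ g, φ g 0 = 0 ↔ g ∈ Subgroup.closure S6) ∧ (∀ g, φ g 0 < 1782) := by
  have hne : (Subgroup.closure S6).index ≠ 0 := by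
    have : Finite Suz := finite_Suz
    exact Subgroup.index_ne_zero_of_finite
  have hle : (Subgroup.closure S6).index ≤ 1782 := by
    rw [S1680.S6_eq_image]; exact index_le
  exact (index_eq_of_action (Subgroup.closure S6) φ 1782 fix_S6 S1680.trans_point hle hne).2

theorem rep2 : Rep φ (Subgroup.closure S6) 1366 U2 1782 416 where
  lt := stab_lt.2
  ex := S1680.trans_point
  stab := stab_lt.1
  orb := orb2
  card := ncard_testBit (k := 11) (U := U2) (m := 416) (by decide +kernel) (by decide +kernel)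

theorem rep1 : Rep φ (Subgroup.closure S6) 1 U1 1782 1365 where
  lt := stab_lt.2
  ex := S1680.trans_point
  stab := stab_lt.1
  orb := orb1
  card := ncard_testBit (k := 11) (U := U1) (m := 1365) (by decide +kernel) (by decide +kernel)

theorem val_x : {q : ℕ | Rn φ 1366 q (φ (el [.a, .b]) q)}.ncard = 400 ∧
    {q : ℕ | q < 1782 ∧ φ (el [.a, .b]) q = q}.ncard = 2 :=
  value rep2 (by norm_num) (by norm_num) (wd_ok _) wlk_ok wlk_ex (φ_el _) chk_x (by decide +kernel)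
    (by decide +kernel)

theorem val_y : {q : ℕ | Rn φ 1366 q (φ (el [.a, .b, .d]) q)}.ncard = 400 ∧
    {q : ℕ | q < 1782 ∧ φ (el [.a, .b, .d]) q = q}.ncard = 2 :=
  value rep2 (by norm_num) (by norm_num) (wd_ok _) wlk_ok wlk_ex (φ_el _) chk_y (by decide +kernel)
    (by decide +kernel)

/-- The irreducible character of degree 780. -/
theorem exists_irr : ∃ χ : IrrCharacter Suz, ∀ g : Suz, (36 : ℂ) * (χ : Suz → ℂ) g =
    ({q : ℕ | Rn φ 1366 q (φ g q)}.ncard : ℂ) + 16 * ({q : ℕ | q < 1782 ∧ φ g q = q}.ncard : ℂ) - 432 := by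
  have hfin : Finite Suz := finite_Suz
  have hUp : U2.testBit 1 = false := by
    rw [← tb_eq]
    decide +kernel
  have hs : φ (el [.g]) = wperm (wd [.g]) := φ_el _
  have hp : wperm (wd [.g]) 1 = 0 := by
    rw [← ptWord_eq (wd_ok [.g])]
    decide +kernel
  obtain ⟨χ, hχ⟩ := Walk.exists_irr (u := 20) (v := -16) (a := 100) (b := 96) rep2 rep1 (by norm_num) (by norm_num)
    (by norm_num) (by norm_num) (by norm_num) (by norm_num) hUp (wd_ok [.g]) hs hp (by decide +kernel)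
    (by decide +kernel) (by norm_num) (by norm_num) (by norm_num) (by norm_num) (by norm_num) (by norm_num)
  refine ⟨χ, fun g => ?_⟩
  have h := hχ g
  push_cast at h
  linear_combination h

/-- The character of degree 780 vanishes at `ab` and `abd`. -/
theorem exists_zero : ∃ χ : IrrCharacter Suz, (χ : Suz → ℂ) (el [.a, .b]) = 0 ∧
    (χ : Suz → ℂ) (el [.a, .b, .d]) = 0 := by
  obtain ⟨χ, hχ⟩ := exists_irr
  refine ⟨χ, ?_, ?_⟩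
  · have h := hχ (el [.a, .b])
    rw [val_x.1, val_x.2] at h
    have h2 : (36 : ℂ) * (χ : Suz → ℂ) (el [.a, .b]) = 0 := by rw [h]; norm_num
    exact (mul_eq_zero.1 h2).resolve_left (by norm_num)
  · have h := hχ (el [.a, .b, .d])
    rw [val_y.1, val_y.2] at h
    have h2 : (36 : ℂ) * (χ : Suz → ℂ) (el [.a, .b, .d]) = 0 := by rw [h]; norm_num
    exact (mul_eq_zero.1 h2).resolve_left (by norm_num)

end Cfsg.Agent.H896.Van.SuzVal
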