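import Cfsg.Agent.H896.Van.Chi
import Cfsg.Agent.Lib.PermNetOrbit
import Cfsg.Agent.Lib.PermNetPt
import Cfsg.Agent.Lib.PermNetFix

/-!
# Counting the pairs `(i, x i)` in an orbital by a walk through all points (helper896, S4987)

`G` acts on `ℕ` by `φ`, the orbit of `0` is `{0, …, n - 1}`, the set of bits of `U` is the orbit of `p₁` under the
stabilizer of `0`. `walk` runs through a list of networks, carries along the current point `i` and the mask `A` of the
neighbours of `i`, and marks `i` (bit `i`) and, if `x i` is a neighbour of `i`, also the bit `K + i`.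
-/

set_option autoImplicit false
set_option exponentiation.threshold 5000

namespace Cfsg.Agent.H896.Van.Walk

open Cfsg Cfsg.Agent.Lib Cfsg.Agent.Lib.PermNet Cfsg.Agent.Lib.PermNetOrbit Cfsg.Agent.Lib.PermNetPt
  Cfsg.Agent.H690.Spor.RankThree Cfsg.Agent.Characters.Core

/-- mark the point `i` -/
noncomputable def upd (K : ℕ) (xw : List Net) (i A acc : ℕ) : ℕ :=
  Bool.rec (Nat.lor acc (Nat.shiftLeft 1 i)) (Nat.lor (Nat.lor acc (Nat.shiftLeft 1 i)) (Nat.shiftLeft 1 (Nat.add K i)))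
    (tb A (ptWord xw i))

/-- the walk -/
noncomputable def walk (K : ℕ) (xw : List Net) (w : List Net) : ℕ → ℕ → ℕ → ℕ :=
  List.rec (motive := fun _ => ℕ → ℕ → ℕ → ℕ) (fun _ _ acc => acc)
    (fun L _ ih i A acc => force (invPt L i) fun i' => seq (L.app A) fun A' =>
      seq (upd K xw i' A' acc) fun acc' => ih i' A' acc') w

theorem walk_nil (K : ℕ) (xw : List Net) (i A acc : ℕ) : walk K xw [] i A acc = acc := rfl

theorem walk_cons (K : ℕ) (xw : List Net) (L : Net) (w : List Net) (i A acc : ℕ) :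
    walk K xw (L :: w) i A acc = walk K xw w (invPt L i) (L.app A) (upd K xw (invPt L i) (L.app A) acc) := by
  show force (invPt L i) (fun i' => seq (L.app A) fun A' => seq (upd K xw i' A' acc)
    fun acc' => walk K xw w i' A' acc') = _
  rw [force_eq, seq_eq, seq_eq]

variable {G : Type*} [Group G] (φ : G →* Equiv.Perm ℕ)

/-- the orbital -/
def Rn (p₁ i j : ℕ) : Prop := ∃ g : G, φ g 0 = i ∧ φ g p₁ = j

/-- the invariant of the walk -/
def Inv (U i A : ℕ) : Prop := ∃ h : G, φ h 0 = i ∧ ∀ q, A.testBit q = U.testBit ((φ h)⁻¹ q)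

/-- the marks are right -/
def Good (p₁ K : ℕ) (xw : List Net) (acc : ℕ) : Prop :=
  ∀ q < K, acc.testBit (K + q) = true ↔ (acc.testBit q = true ∧ Rn φ p₁ q (wperm xw q))

variable {φ} {p₁ U n K N : ℕ}

theorem testBit_one_shift (i q : ℕ) : (Nat.shiftLeft 1 i).testBit q = decide (i = q) := by
  show (1 <<< i).testBit q = _
  rw [Nat.one_shiftLeft, Nat.testBit_two_pow]

theorem good_upd {xw : List Net} (hx : WOk N xw) {i A acc : ℕ} (hi : i < K)
    (hA : A.testBit (wperm xw i) = true ↔ Rn φ p₁ i (wperm xw i)) (h : Good φ p₁ K xw acc) :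
    Good φ p₁ K xw (upd K xw i A acc) := by
  intro q hq
  unfold upd
  rw [ptWord_eq hx, tb_eq]
  by_cases hc : A.testBit (wperm xw i) = true
  · rw [hc]
    show ((acc ||| (Nat.shiftLeft 1 i)) ||| (Nat.shiftLeft 1 (K + i))).testBit (K + q) = true ↔
      (((acc ||| (Nat.shiftLeft 1 i)) ||| (Nat.shiftLeft 1 (K + i))).testBit q = true ∧ _)
    rw [Nat.testBit_or, Nat.testBit_or, Nat.testBit_or, Nat.testBit_or, testBit_one_shift, testBit_one_shift,
      testBit_one_shift, testBit_one_shift]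
    have h1 : decide (i = K + q) = false := decide_eq_false (by omega)
    have h2 : decide (K + i = q) = false := decide_eq_false (by omega)
    rw [h1, h2, Bool.or_false, Bool.or_false]
    by_cases hiq : i = q
    · subst hiq
      simp only [decide_true, Bool.or_true, true_and, true_iff]
      exact hA.1 hc
    · have h3 : decide (K + i = K + q) = false := decide_eq_false (by omega)
      have h4 : decide (i = q) = false := decide_eq_false hiq
      rw [h3, h4, Bool.or_false, Bool.or_false]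
      exact h q hq
  · have hc' : A.testBit (wperm xw i) = false := by simpa using hc
    rw [hc']
    show (acc ||| (Nat.shiftLeft 1 i)).testBit (K + q) = true ↔
      ((acc ||| (Nat.shiftLeft 1 i)).testBit q = true ∧ _)
    rw [Nat.testBit_or, Nat.testBit_or, testBit_one_shift, testBit_one_shift]
    have h1 : decide (i = K + q) = false := decide_eq_false (by omega)
    rw [h1, Bool.or_false]
    by_cases hiq : i = q
    · subst hiq
      have h5 := h i hi
      constructor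
      · intro h6
        obtain ⟨h7, h8⟩ := h5.1 h6
        exact ⟨by rw [h7]; rfl, h8⟩
      · rintro ⟨_, h8⟩
        exact absurd (hA.2 h8) hc
    · have h4 : decide (i = q) = false := decide_eq_false hiq
      rw [h4, Bool.or_false]
      exact h q hq

theorem inv_step {L : Net} (hL : L.ok N = true) {s : G} (hs : φ s = L.perm) {i A : ℕ} (h : Inv φ U i A) :
    Inv φ U (invPt L i) (L.app A) := by
  obtain ⟨g, hg, hA⟩ := h
  refine ⟨s⁻¹ * g, ?_, fun q => ?_⟩
  · rw [map_mul, map_inv, Equiv.Perm.mul_apply, hg, invPt_eq hL, hs]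
  · rw [testBit_app hL, hA, map_mul, map_inv, mul_inv_rev, inv_inv, Equiv.Perm.mul_apply, hs]

/-- What the permutation representation has to satisfy. -/
structure Rep (φ : G →* Equiv.Perm ℕ) (S : Subgroup G) (p₁ U n k : ℕ) : Prop where
  lt : ∀ g, φ g 0 < n
  ex : ∀ i < n, ∃ g, φ g 0 = i
  stab : ∀ g, φ g 0 = 0 ↔ g ∈ S
  orb : {p : ℕ | ∃ x ∈ S, φ x p₁ = p} = {p | U.testBit p = true}
  card : {p : ℕ | U.testBit p = true}.ncard = k

theorem Rep.inv_iff {S : Subgroup G} {k : ℕ} (hr : Rep φ S p₁ U n k) {i A : ℕ} (h : Inv φ U i A) (j : ℕ) :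
    A.testBit j = true ↔ Rn φ p₁ i j := by
  obtain ⟨g, hg, hA⟩ := h
  rw [hA]
  constructor
  · intro h1
    have h2 : (φ g)⁻¹ j ∈ {p | U.testBit p = true} := h1
    rw [← hr.orb] at h2
    obtain ⟨x, hx, h3⟩ := h2
    refine ⟨g * x, ?_, ?_⟩
    · rw [map_mul, Equiv.Perm.mul_apply, (hr.stab x).2 hx, hg]
    · rw [map_mul, Equiv.Perm.mul_apply, h3, ← Equiv.Perm.mul_apply, mul_inv_cancel, Equiv.Perm.one_apply]
  · rintro ⟨y, hy1, hy2⟩
    have h2 : (φ g)⁻¹ j ∈ {p : ℕ | ∃ x ∈ S, φ x p₁ = p} := by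
      refine ⟨g⁻¹ * y, (hr.stab _).1 ?_, ?_⟩
      · rw [map_mul, map_inv, Equiv.Perm.mul_apply, hy1, ← hg, ← Equiv.Perm.mul_apply, inv_mul_cancel,
          Equiv.Perm.one_apply]
      · rw [map_mul, map_inv, Equiv.Perm.mul_apply, hy2]
    rw [hr.orb] at h2
    exact h2

theorem good_walk {S : Subgroup G} {k : ℕ} (hr : Rep φ S p₁ U n k) (hnK : n ≤ K) {xw : List Net}
    (hx : WOk N xw) {w : List Net} (hw : WOk N w) (hw' : ∀ L ∈ w, ∃ s, φ s = L.perm) {i A acc : ℕ}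
    (hI : Inv φ U i A) (h : Good φ p₁ K xw acc) : Good φ p₁ K xw (walk K xw w i A acc) := by
  induction w generalizing i A acc with
  | nil => exact h
  | cons L w ih =>
    rw [walk_cons]
    obtain ⟨s, hs⟩ := hw' L List.mem_cons_self
    have hI' := inv_step (hw L List.mem_cons_self) hs hI
    refine ih (fun M hM => hw M (List.mem_cons_of_mem _ hM)) (fun M hM => hw' M (List.mem_cons_of_mem _ hM)) hI'
      (good_upd hx ?_ (hr.inv_iff hI' _) h)
    obtain ⟨g, hg, _⟩ := hI'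
    rw [← hg]
    exact (hr.lt g).trans_le hnK

/-- the check: all points are visited and `m` of them are marked -/
noncomputable def chk (k : ℕ) (xw w : List Net) (U n m : ℕ) : Bool :=
  seqB (walk (Nat.pow 2 k) xw w 0 U 0) fun r =>
    Bool.rec false (seqB (Nat.shiftRight r (Nat.pow 2 k)) fun T =>
      Bool.rec false (Nat.beq (Nat.shiftRight T (Nat.pow 2 k)) 0) (Nat.beq (pc k T) m))
      (Nat.beq (Nat.land r (Nat.sub (Nat.pow 2 n) 1)) (Nat.sub (Nat.pow 2 n) 1))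

theorem chk_spec {S : Subgroup G} {k k' m : ℕ} (hr : Rep φ S p₁ U n k) (hnK : n ≤ 2 ^ k') {xw : List Net}
    (hx : WOk (2 ^ k') xw) {w : List Net} (hw : WOk (2 ^ k') w) (hw' : ∀ L ∈ w, ∃ s, φ s = L.perm)
    (h : chk k' xw w U n m = true) (hlt : ∀ q, Rn φ p₁ q (wperm xw q) → q < n) :
    {q : ℕ | Rn φ p₁ q (wperm xw q)}.ncard = m := by
  unfold chk at h
  rw [seqB_eq] at h
  have hI : Inv φ U 0 U := ⟨1, by simp, fun q => by simp⟩
  have hG0 : Good φ p₁ (2 ^ k') xw 0 := by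
    intro q _
    simp
  have hG := good_walk hr hnK hx hw hw' hI hG0
  change ∀ q < 2 ^ k', _ at hG
  set r := walk (2 ^ k') xw w 0 U 0 with hrr
  have hr' : walk (Nat.pow 2 k') xw w 0 U 0 = r := rfl
  rw [hr'] at h
  have h1 : Nat.beq (Nat.land r (Nat.sub (Nat.pow 2 n) 1)) (Nat.sub (Nat.pow 2 n) 1) = true := by
    by_contra hc
    rw [Bool.not_eq_true] at hc
    rw [hc] at h
    exact absurd h (by simp)
  rw [h1] at h
  simp only at h
  rw [seqB_eq] at h
  have h2 : Nat.beq (pc k' (Nat.shiftRight r (Nat.pow 2 k'))) m = true := by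
    by_contra hc
    rw [Bool.not_eq_true] at hc
    rw [hc] at h
    exact absurd h (by simp)
  rw [h2] at h
  have h3 : Nat.beq (Nat.shiftRight (Nat.shiftRight r (Nat.pow 2 k')) (Nat.pow 2 k')) 0 = true := h
  have h4 := ncard_testBit h3 h2
  rw [← h4]
  congr 1
  ext q
  have h5 : r &&& (2 ^ n - 1) = 2 ^ n - 1 := Nat.eq_of_beq_eq_true h1
  have hvis : ∀ q < n, r.testBit q = true := by
    intro q hq
    have h6 : (2 ^ n - 1).testBit q = true := by rw [Nat.testBit_two_pow_sub_one, decide_eq_true_eq]; exact hq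
    rw [← h5, Nat.testBit_and, Bool.and_eq_true] at h6
    exact h6.1
  have h6 : (Nat.shiftRight r (Nat.pow 2 k')).testBit q = r.testBit (2 ^ k' + q) := Nat.testBit_shiftRight _
  show _ ↔ (Nat.shiftRight r (Nat.pow 2 k')).testBit q = true
  rw [h6]
  by_cases hq : q < 2 ^ k'
  · rw [hG q hq]
    constructor
    · intro h7
      exact ⟨hvis q (hlt q h7), h7⟩
    · exact fun h7 => h7.2
  · constructor
    · intro h7
      exact absurd ((hlt q h7).trans_le hnK) hq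
    · intro h7
      exfalso
      have h8 : r >>> 2 ^ k' >>> 2 ^ k' = 0 := Nat.eq_of_beq_eq_true h3
      have h9 : (r >>> 2 ^ k' >>> 2 ^ k').testBit (q - 2 ^ k') = true := by
        rw [Nat.testBit_shiftRight, Nat.testBit_shiftRight, ← h7]
        congr 1
        omega
      rw [h8, Nat.zero_testBit] at h9
      exact absurd h9 (by simp)

/-! ### The action on the points -/

/-- the points -/
@[ext] structure Pt (φ : G →* Equiv.Perm ℕ) : Type where
  val : ℕ
  ex : ∃ g, φ g 0 = val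

instance : MulAction G (Pt φ) where
  smul g p := ⟨φ g p.1, by
    obtain ⟨h, hh⟩ := p.2
    exact ⟨g * h, by rw [map_mul, Equiv.Perm.mul_apply, hh]⟩⟩
  one_smul p := Pt.ext (by show φ 1 p.1 = p.1; simp)
  mul_smul g h p := Pt.ext (by show φ (g * h) p.1 = φ g (φ h p.1); simp)

theorem smul_val (g : G) (p : Pt φ) : (g • p).1 = φ g p.1 := rfl

/-- the base point -/
def pt0 : Pt φ := ⟨0, 1, by simp⟩

/-- the relation -/
def RR (b : Pt φ) (x y : Pt φ) : Prop := ∃ g : G, g • (pt0 : Pt φ) = x ∧ g • b = y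

theorem RR_iff (b x y : Pt φ) : RR b x y ↔ Rn φ b.1 x.1 y.1 := by
  constructor
  · rintro ⟨g, h1, h2⟩
    exact ⟨g, congrArg Pt.val h1, congrArg Pt.val h2⟩
  · rintro ⟨g, h1, h2⟩
    exact ⟨g, Pt.ext h1, Pt.ext h2⟩

theorem Rn_ex (b : Pt φ) {i j : ℕ} (h : Rn φ b.1 i j) : (∃ g, φ g 0 = i) ∧ ∃ g, φ g 0 = j := by
  obtain ⟨g, h1, h2⟩ := h
  obtain ⟨y, hy⟩ := b.2
  refine ⟨⟨g, h1⟩, g * y, ?_⟩
  rw [map_mul, Equiv.Perm.mul_apply, hy, h2]

theorem card_nbr (P : ℕ → Prop) (hP : ∀ q, P q → ∃ g, φ g 0 = q) :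
    Nat.card {x : Pt φ // P x.1} = {q : ℕ | P q}.ncard := by
  rw [← Nat.card_coe_set_eq]
  exact Nat.card_congr ⟨fun x => ⟨x.1.1, x.2⟩, fun q => ⟨⟨q.1, hP _ q.2⟩, q.2⟩, fun x => rfl, fun q => rfl⟩

theorem val_injective : Function.Injective (Pt.val : Pt φ → ℕ) := fun _ _ h => Pt.ext h

theorem orbit_ncard {S : Subgroup G} (hst : ∀ g, φ g 0 = 0 ↔ g ∈ S) (b : Pt φ) :
    (MulAction.orbit (MulAction.stabilizer G (pt0 : Pt φ)) b).ncard = {p : ℕ | ∃ x ∈ S, φ x b.1 = p}.ncard := by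
  rw [← Set.ncard_image_of_injective _ (val_injective (φ := φ))]
  congr 1
  ext p
  constructor
  · rintro ⟨_, ⟨⟨g, hg⟩, rfl⟩, rfl⟩
    refine ⟨g, (hst g).1 ?_, rfl⟩
    exact congrArg Pt.val (MulAction.mem_stabilizer_iff.1 hg)
  · rintro ⟨g, hg, rfl⟩
    refine ⟨g • b, ⟨⟨g, ?_⟩, rfl⟩, rfl⟩
    exact MulAction.mem_stabilizer_iff.2 (Pt.ext ((hst g).2 hg))

theorem card_Pt (hlt : ∀ g, φ g 0 < n) (hex : ∀ i < n, ∃ g, φ g 0 = i) : Nat.card (Pt φ) = n := by
  have h1 : Nat.card (Pt φ) = Nat.card (Fin n) :=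
    Nat.card_congr ⟨fun x => ⟨x.1, by obtain ⟨g, hg⟩ := x.2; rw [← hg]; exact hlt g⟩,
      fun i => ⟨i.1, hex _ i.2⟩, fun x => rfl, fun i => rfl⟩
  rw [h1, Nat.card_eq_fintype_card, Fintype.card_fin]

/-- The rank 3 action. -/
theorem r3 {S : Subgroup G} {p₁ p₂ U V n k l : ℕ} (h1 : Rep φ S p₁ U n k) (h2 : Rep φ S p₂ V n l)
    (hp1 : p₁ < n) (hp2 : p₂ < n) (h01 : p₁ ≠ 0) (h02 : p₂ ≠ 0) (hkl : k ≠ l) (hn : n = 1 + k + l) :
    R3 G (Pt φ) (RR (⟨p₁, h1.ex p₁ hp1⟩ : Pt φ)) k l := by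
  have hfin : Finite (Pt φ) := Nat.finite_of_card_ne_zero (by rw [card_Pt h1.lt h1.ex]; omega)
  have ht : MulAction.IsPretransitive G (Pt φ) := by
    refine ⟨fun x y => ?_⟩
    obtain ⟨g, hg⟩ := x.2
    obtain ⟨h, hh⟩ := y.2
    refine ⟨h * g⁻¹, Pt.ext ?_⟩
    rw [smul_val, ← hg, ← hh, map_mul, map_inv, Equiv.Perm.mul_apply, ← Equiv.Perm.mul_apply (φ g)⁻¹,
      inv_mul_cancel, Equiv.Perm.one_apply]
  refine R3.of_orbits (a := (pt0 : Pt φ)) (b := ⟨p₁, h1.ex p₁ hp1⟩) (c := ⟨p₂, h1.ex p₂ hp2⟩) ht ?_ ?_ ?_ ?_ hkl ?_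
  · exact fun h => h01 (congrArg Pt.val h)
  · exact fun h => h02 (congrArg Pt.val h)
  · rw [orbit_ncard h1.stab]
    exact (congrArg Set.ncard h1.orb).trans h1.card
  · rw [orbit_ncard h2.stab]
    exact (congrArg Set.ncard h2.orb).trans h2.card
  · rw [card_Pt h1.lt h1.ex, hn]

/-! ### Fixed points -/

/-- the points below `n` fixed by the word -/
noncomputable def fixm (k n : ℕ) (w : List Net) : ℕ :=
  seq (Nat.sub (Nat.pow 2 n) 1) fun u => Nat.xor u (Nat.land (PermNetFix.moved k w) u)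

theorem testBit_fixm {k n : ℕ} (hn : n ≤ 2 ^ k) {w : List Net} (hw : WOk (2 ^ k) w) (q : ℕ) :
    (fixm k n w).testBit q = true ↔ (q < n ∧ wperm w q = q) := by
  unfold fixm
  rw [seq_eq]
  show (((2 ^ n - 1) ^^^ (PermNetFix.moved k w &&& (2 ^ n - 1))).testBit q = true) ↔ _
  rw [Nat.testBit_xor, Nat.testBit_and, Nat.testBit_two_pow_sub_one]
  by_cases hq : q < n
  · rw [decide_eq_true hq, Bool.and_true, Bool.true_xor, Bool.not_eq_true',
      PermNetFix.testBit_moved_false hw (hq.trans_le hn)]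
    exact ⟨fun h => ⟨hq, h⟩, fun h => h.2⟩
  · rw [decide_eq_false hq, Bool.and_false]
    simp [hq]

/-! ### The character -/

theorem Rn_lt {S : Subgroup G} {k : ℕ} (hr : Rep φ S p₁ U n k) (hp : p₁ < n) {i j : ℕ} (h : Rn φ p₁ i j) :
    i < n ∧ j < n := by
  obtain ⟨⟨g, hg⟩, ⟨h, hh⟩⟩ := Rn_ex (⟨p₁, hr.ex p₁ hp⟩ : Pt φ) h
  exact ⟨hg ▸ hr.lt g, hh ▸ hr.lt h⟩

/-- **The character of degree `k₁` of a rank 3 action given by networks.** -/
theorem exists_irr [Finite G] {S : Subgroup G} {p₁ p₂ U V n k l : ℕ} (h1 : Rep φ S p₁ U n k)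
    (h2 : Rep φ S p₂ V n l) (hp1 : p₁ < n) (hp2 : p₂ < n) (h01 : p₁ ≠ 0) (h02 : p₂ ≠ 0) (hkl : k ≠ l)
    (hn : n = 1 + k + l) (hUp : U.testBit p₂ = false) {a b k' : ℕ} {w' : List Net} (hw' : WOk (2 ^ k') w')
    {s' : G} (hs' : φ s' = wperm w') (hp : wperm w' p₂ = 0)
    (hb0 : Nat.beq (Nat.shiftRight (Nat.land U (appWord w' U)) (Nat.pow 2 k')) 0 = true)
    (hb : Nat.beq (pc k' (Nat.land U (appWord w' U))) b = true) (hk : k * k = k + k * a + l * b) {u v : ℂ}
    (huv : u ≠ v) (h3 : u + v = a - b) (h4 : u * v = b - k) (hu : u * (k + l) + k ≠ 0)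
    (hv : v * (k + l) + k ≠ 0) : ∃ χ : IrrCharacter G, ∀ g : G, (u - v) * (χ : G → ℂ) g =
      ({q : ℕ | Rn φ p₁ q (φ g q)}.ncard : ℂ) - v * ({q : ℕ | q < n ∧ φ g q = q}.ncard : ℂ) - (k - v) := by
  have hr := r3 h1 h2 hp1 hp2 h01 h02 hkl hn
  set b0 : Pt φ := ⟨p₁, h1.ex p₁ hp1⟩ with hb0'
  set c0 : Pt φ := ⟨p₂, h1.ex p₂ hp2⟩ with hc0'
  have hI : Inv φ U 0 U := ⟨1, by simp, fun q => by simp⟩
  have hI2 : Inv φ U p₂ (appWord w' U) := by
    refine ⟨s'⁻¹, ?_, fun q => ?_⟩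
    · rw [map_inv, hs', ← hp, ← Equiv.Perm.mul_apply, inv_mul_cancel, Equiv.Perm.one_apply]
    · rw [testBit_appWord hw', map_inv, inv_inv, hs']
  have hcom : Nat.card {z // RR b0 pt0 z ∧ RR b0 z c0} = b := by
    have h5 : Nat.card {z // RR b0 pt0 z ∧ RR b0 z c0} =
        Nat.card {z : Pt φ // (Nat.land U (appWord w' U)).testBit z.1 = true} := by
      refine Nat.card_congr (Equiv.subtypeEquivRight fun z => ?_)
      show _ ↔ (U &&& appWord w' U).testBit z.1 = true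
      rw [Nat.testBit_and, Bool.and_eq_true, h1.inv_iff hI, h1.inv_iff hI2, RR_iff]
      have h6 : RR b0 z c0 ↔ Rn φ p₁ p₂ z.1 := by
        constructor
        · intro h7
          exact (RR_iff b0 c0 z).1 (hr.symm _ _ h7)
        · intro h7
          exact hr.symm _ _ ((RR_iff b0 c0 z).2 h7)
      rw [h6]
      exact Iff.rfl
    rw [h5, card_nbr (φ := φ) (fun q => (Nat.land U (appWord w' U)).testBit q = true) ?_, ncard_testBit hb0 hb]
    intro q hq
    have h7 : (U &&& appWord w' U).testBit q = true := hq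
    rw [Nat.testBit_and, Bool.and_eq_true, h1.inv_iff hI] at h7
    exact h1.ex q (Rn_lt h1 hp1 h7.1).2
  have hne : (pt0 : Pt φ) ≠ c0 := fun h => h02 (congrArg Pt.val h).symm
  have hR : ¬ RR b0 pt0 c0 := by
    intro h
    have h7 : U.testBit p₂ = true := (h1.inv_iff hI p₂).2 ((RR_iff b0 pt0 c0).1 h)
    rw [hUp] at h7
    exact absurd h7 (by simp)
  obtain ⟨χ, hχ⟩ := Chi.exists_irr hr hne hR hcom hk huv h3 h4 hu hv
  refine ⟨χ, fun g => ?_⟩
  have e1 : Nat.card {x : Pt φ // RR b0 x (g • x)} = {q : ℕ | Rn φ p₁ q (φ g q)}.ncard := by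
    rw [← card_nbr (φ := φ) (fun q => Rn φ p₁ q (φ g q)) (fun q hq => h1.ex q (Rn_lt h1 hp1 hq).1)]
    exact Nat.card_congr (Equiv.subtypeEquivRight fun z => by
      rw [RR_iff]
      exact Iff.rfl)
  have e2 : Nat.card (MulAction.fixedBy (Pt φ) g) = {q : ℕ | q < n ∧ φ g q = q}.ncard := by
    rw [← card_nbr (φ := φ) (fun q => q < n ∧ φ g q = q) (fun q hq => h1.ex q hq.1)]
    refine Nat.card_congr ⟨fun z => ⟨z.1, ?_, ?_⟩, fun z => ⟨z.1, ?_⟩, fun _ => rfl, fun _ => rfl⟩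
    · obtain ⟨y, hy⟩ := z.1.2
      rw [← hy]
      exact h1.lt y
    · exact congrArg Pt.val (MulAction.mem_fixedBy.1 z.2)
    · exact MulAction.mem_fixedBy.2 (Pt.ext z.2.2)
  rw [hχ g, e1, e2]

/-- The value at an element given by a word. -/
theorem value {S : Subgroup G} {p₁ U n k : ℕ} (h1 : Rep φ S p₁ U n k) (hp1 : p₁ < n) {k' : ℕ} (hnK : n ≤ 2 ^ k')
    {xw w : List Net} (hx : WOk (2 ^ k') xw) (hw : WOk (2 ^ k') w) (hw' : ∀ L ∈ w, ∃ s, φ s = L.perm) {x : G}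
    (hxw : φ x = wperm xw) {m f : ℕ} (hm : chk k' xw w U n m = true)
    (hf0 : Nat.beq (Nat.shiftRight (fixm k' n xw) (Nat.pow 2 k')) 0 = true)
    (hf : Nat.beq (pc k' (fixm k' n xw)) f = true) :
    {q : ℕ | Rn φ p₁ q (φ x q)}.ncard = m ∧ {q : ℕ | q < n ∧ φ x q = q}.ncard = f := by
  rw [hxw]
  refine ⟨chk_spec h1 hnK hx hw hw' hm fun q hq => (Rn_lt h1 hp1 hq).1, ?_⟩
  rw [← ncard_testBit hf0 hf]
  congr 1
  ext q
  exact (testBit_fixm hnK hx q).symm

end Cfsg.Agent.H896.Van.Walk
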